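import Cfsg.Agent.H7.NBpComp
import Cfsg.Agent.H33.IM
import Cfsg.Agent.S4710
import Cfsg.Agent.H665.NoPQ

/-!
# `p³ ∤ |G|` and Itô–Michler give a nonprincipal `p`-block (S5002, S5003)

The heights in a block of defect at most two are zero (Brauer–Feit, S4710), so a character of degree divisible by `p`
is outside the principal block if the Sylow `p`-subgroups have order at most `p²`.

* `NB.of_IM_sq`: `IM p G`, `p³ ∤ |G|`;
* `NB.of_hasDZ`: `HasDZ p G`, `p ∣ |G|`.
-/

set_option autoImplicit false

open Cfsg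

namespace Cfsg.Agent.H368.NBSq

open Cfsg.Agent.H7.NBp Cfsg.Agent

universe u

section

variable {G : Type u} [Group G] [Finite G]

omit [Finite G] in
theorem sInf_principal {p : ℕ} {M : Ideal AlgInt} (hM : IsPModular p M) :
    sInf ((fun ψ : IrrCharacter G => (charDegree (ψ : G → ℂ)).factorization p) '' principalBlock M G) = 0 := by
  have hMp : M.IsPrime := hM.2.1.isPrime
  apply Nat.le_zero.1
  have h1 : charDegree (fun _ : G => (1 : ℂ)) = 1 := Blocks.Basic.charDegree_of_eq (by simp)
  have h2 : (charDegree (fun _ : G => (1 : ℂ))).factorization p = 0 := by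
    rw [h1]; simp
  have h3 : (charDegree (fun _ : G => (1 : ℂ))).factorization p ∈
      ((fun ψ : IrrCharacter G => (charDegree (ψ : G → ℂ)).factorization p) ''
        principalBlock M G) :=
    ⟨⟨fun _ => 1, Blocks.Basic.isIrrCharacter_one⟩,
      Blocks.PrincipalSection.one_mem_principalBlock, rfl⟩
  rw [h2] at h3
  exact Nat.sInf_le h3

/-- The degrees in the principal block are prime to `p` if `p³ ∤ |G|`. -/
theorem not_dvd_degree {p : ℕ} [hp : Fact p.Prime] {M : Ideal AlgInt} (hM : IsPModular p M)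
    (h3 : ¬ p ^ 3 ∣ Nat.card G) {χ : IrrCharacter G} (hχ : χ ∈ principalBlock M G) :
    ¬ p ∣ charDegree (χ : G → ℂ) := by
  have hd : blockDefect p (principalBlock M G) = (Nat.card G).factorization p := by
    rw [blockDefect, sInf_principal hM, Nat.sub_zero]
  have hfac : (Nat.card G).factorization p ≤ 2 := by
    by_contra hcon
    push Not at hcon
    exact h3 ((pow_dvd_pow p hcon).trans (Nat.ordProj_dvd (Nat.card G) p))
  have h1 := (S4710.result p M hM (principalBlock M G) Blocks.PrincipalSection.isPBlock_principalBlock _ hd).2 χ hχ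
  have h4 : blockHeight p (principalBlock M G) (χ : G → ℂ) = 0 := by
    by_cases h5 : (Nat.card G).factorization p ≤ 1
    · exact h1.1 h5
    · have h6 := h1.2 (by omega)
      omega
  rw [blockHeight, sInf_principal hM, Nat.sub_zero] at h4
  intro h2
  have h5 := (hp.out.dvd_iff_one_le_factorization (Blocks.Basic.charDegree_pos χ.2).ne').1 h2
  omega

/-- **`p³ ∤ |G|` and a character of degree divisible by `p`.** -/
theorem NB.of_IM_sq {p : ℕ} [hp : Fact p.Prime] (h : H33.IM p G) (h3 : ¬ p ^ 3 ∣ Nat.card G) : NB p G := by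
  intro M hM
  obtain ⟨χ, hχ⟩ := h
  exact ⟨χ, fun hmem => not_dvd_degree hM h3 hmem hχ⟩

/-- a character of defect zero -/
theorem NB.of_hasDZ {p : ℕ} [hp : Fact p.Prime] (h : H665.NoPQ.HasDZ p G) (hpG : p ∣ Nat.card G) : NB p G := by
  obtain ⟨χ, hχ⟩ := h
  have hpos : 0 < charDegree (χ : G → ℂ) := Blocks.Basic.charDegree_pos χ.2
  have hdvd : charDegree (χ : G → ℂ) ∣ Nat.card G := Blocks.Knorr.charDegree_dvd χ.2
  refine NB.of_dz' χ ?_ ?_
  · intro h1
    rw [h1, Nat.factorization_one] at hχ
    have := (hp.out.dvd_iff_one_le_factorization (Nat.card_pos (α := G)).ne').1 hpG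
    rw [← hχ] at this
    simp at this
  · rw [Nat.Prime.dvd_iff_one_le_factorization hp.out
      (Nat.div_pos (Nat.le_of_dvd Nat.card_pos hdvd) hpos).ne', Nat.factorization_div hdvd]
    rw [Finsupp.tsub_apply, hχ]
    omega

end

end Cfsg.Agent.H368.NBSq
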