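import Cfsg.Agent.H368.NB.Sq
import Cfsg.Agent.H593.IMTits
import Cfsg.Agent.H718.NBIH

/-!
# The Tits group has a nonprincipal `p`-block, `p` odd (S5002, S5003)

`p ≠ 5`: a character of defect zero (helper690); `p = 5`: `25` is the `5`-part of the order, Itô–Michler (helper593).
-/

set_option autoImplicit false

open Cfsg

namespace Cfsg.Agent.H368.NB.Tits

open Cfsg.Agent.H7.NBp Cfsg.Agent.H368.NBSq

/-- **Row Tits.** -/
theorem nb_tits {p : ℕ} [hp : Fact p.Prime] (h2 : p ≠ 2) (S : Type) [Group S] [Finite S] [IsSimpleGroup S]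
    (h : Lie.IsoTits S) (_ih : Cfsg.Agent.H718.NBIH.IH p (Nat.card S)) : NB p S := by
  by_cases hd : p ∣ Nat.card S
  · by_cases h5 : p = 5
    · subst h5
      refine NB.of_IM_sq (H593.IMTits.im_tits h hd) ?_
      rw [Cfsg.Agent.NotCT.Orders.tits h]
      norm_num
    · exact NB.of_hasDZ (H690.Spor.Tits.hasDZ h hp.out h2 h5) hd
  · exact NB.of_not_dvd hd

end Cfsg.Agent.H368.NB.Tits
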