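import Cfsg.Agent.H368.NB.TwFPair
import Cfsg.Agent.H368.NB.Cyc
import Cfsg.Agent.H368.NB.Tits
import Cfsg.Agent.H732.DegSz
import Cfsg.Agent.H732.DegRee
import Cfsg.Agent.S1156
import Cfsg.Agent.S1068
import Cfsg.Agent.KFacts.TwF4.Full

/-!
# S5002, S5003: nonprincipal `p`-blocks, `p` odd: `Sz(q)`, `²G₂(q)`, `²F₄(q)` (helper368, task 2478)

* `Sz(q)`, `²G₂(q)` (`p > 3`): cyclic Sylow `p`-subgroups, Itô–Michler; `²G₂(q)`, `p = 3`: Steinberg character;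
* `²F₄(q)`, `q ≥ 8`: `p ∤ (q - 1)(q² + 1)`: long root elements; `p ∣ (q - 1)(q² + 1)`: `Sz(q) × Sz(q)`.
-/

set_option autoImplicit false

open Cfsg

namespace Cfsg.Agent.H368.NB.Rows

open Cfsg.Agent.H7.NBp Cfsg.Agent.H368.NBSq Cfsg.Agent.H718.NBIH

/-- **Row `Sz(q)`.** -/
theorem nb_sz {p : ℕ} [hp : Fact p.Prime] (h2 : p ≠ 2) (S : Type) [Group S] [Finite S] [IsSimpleGroup S]
    (h : Lie.IsoSuzuki S) (_ih : IH p (Nat.card S)) : NB p S := by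
  by_cases hd : p ∣ Nat.card S
  · obtain ⟨P⟩ : Nonempty (Sylow p S) := inferInstance
    exact NB.of_cyclic_IM (H732.DegSz.im S h inferInstance hd) P
      (Omega.NO1.SE.Centre.isCyclic_of_isPGroup h h2 (P : Subgroup S) P.2)
  · exact NB.of_not_dvd hd

/-- **Row `²G₂(q)`.** -/
theorem nb_ree {p : ℕ} [hp : Fact p.Prime] (h2 : p ≠ 2) (S : Type) [Group S] [Finite S] [IsSimpleGroup S]
    (h : Lie.IsoRee S) (_ih : IH p (Nat.card S)) : NB p S := by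
  by_cases h3 : p = 3
  · subst h3
    exact NB.of_lie (Or.inr (Or.inr (Or.inr (Or.inr (Or.inr (Or.inr (Or.inr (Or.inr (Or.inr (Or.inr
      ⟨rfl, h⟩))))))))))
  by_cases hd : p ∣ Nat.card S
  · have h4 : 3 < p := by
      have := hp.out.two_le
      omega
    have him := H732.DegRee.im S h inferInstance hd
    obtain ⟨K, _, _, m, hm, hK, ⟨e⟩⟩ := h
    have hfin : Finite ↥(Cfsg.Lie.twistedG2 K (3 ^ m)) := Finite.of_equiv S e.toEquiv
    obtain ⟨P⟩ : Nonempty (Sylow p ↥(Cfsg.Lie.twistedG2 K (3 ^ m))) := inferInstance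
    exact NB.iso e.symm (NB.of_cyclic_IM (him.of_equiv e.symm) P (S1156.result hm hK h4 P))
  · exact NB.of_not_dvd hd

/-- **Row `²F₄(q)`.** -/
theorem nb_tf4 {p : ℕ} [hp : Fact p.Prime] (h2 : p ≠ 2) (S : Type) [Group S] [Finite S] [IsSimpleGroup S]
    (h : Lie.Iso2F4 S) (ih : IH p (Nat.card S)) : NB p S := by
  obtain ⟨K, _, _, m, hm, hK, ⟨e⟩⟩ := h
  have hchar := Cfsg.Agent.ChevalleyStructure.TwF4.Twisted.charP_two hK
  obtain ⟨φ, hφ⟩ := ChevalleyStructure.TwF4.TwistedFix.exists_rln hK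
  have hq : Nat.card K = 2 ^ (2 * m + 1) := by rw [Nat.card_eq_fintype_card]; exact hK
  have hfin : Finite ↥(Cfsg.Lie.twistedF4 K (2 ^ m)) := Finite.of_equiv S e.toEquiv
  have hs : IsSimpleGroup ↥(Cfsg.Lie.twistedF4 K (2 ^ m)) := e.symm.isSimpleGroup
  rw [Nat.card_congr e.toEquiv] at ih
  refine NB.iso e.symm ?_
  by_cases hd : p ∣ Nat.card K - 1 ∨ p ∣ 1 + Nat.card K * Nat.card K
  · refine TwFPair.nb (KFacts.TwF4.Inst.full hK hφ) h2 ih (k := 2 * m + 1) (by omega) hq ?_ hd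
    rw [S1068.result hK, hq]
  · rw [not_or] at hd
    exact TwFStar.nb (KFacts.TwF4.Inst.full hK hφ) rfl h2
      (TwFStar.not_dvd_PL (KFacts.TwF4.Inst.full hK hφ) rfl h2 hd.1 hd.2)

end Cfsg.Agent.H368.NB.Rows
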