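import Cfsg.Agent.H368.NB.Pair
import Cfsg.Agent.H368.NB.TwFStar
import Cfsg.Agent.H84.SzLevi
import Cfsg.Agent.Mrg.Omega.NO1.SE.Red
import Cfsg.Agent.S1162

/-!
# `²F₄(q)`: the commuting Suzuki groups `⟨X_0, X_8⟩`, `⟨X_4, X_12⟩` and `p`-blocks, `p ∣ |Sz(q)|` (S5002, S5003)
-/

set_option autoImplicit false
set_option linter.unusedSectionVars false

namespace Cfsg.Agent.H368.NB.TwFPair

open Subgroup
open Cfsg.Agent.SplitTwo Cfsg.Agent.SplitTwo.ZS Cfsg.Agent.TitsThree.RankTwoZ Cfsg.Agent.KFacts.TwF4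
open Cfsg.Agent.KFacts.TwF4.Arc Cfsg.Agent.KFacts.TwF4.Irr Cfsg.Agent.KFacts.TwF4.Perf
open Cfsg.Agent.H84.GaussTwF4 Cfsg.Agent.H127.TwFInv
open Cfsg.Agent.H7.NBp Cfsg.Agent.H718.NBIH Cfsg.Agent.H368.NBPair

universe u v

variable {F : Type*} [Field F] {σ : F →+* F} {G : Type u} [Group G] (S : Full σ G)

theorem e4_mem (p u : F) : S.e 4 p u ∈ S.XZ 8 := by
  have := S.e_mem 4 p u; push_cast at this; exact this

theorem e0_mem (p u : F) : S.e 0 p u ∈ S.XZ 0 := by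
  have := S.e_mem 0 p u; push_cast at this; exact this

/-- `1 + q²` divides the order of `⟨X_0, X_8⟩` -/
theorem sq_dvd [Finite F] [Finite G] : 1 + Nat.card F * Nat.card F ∣ Nat.card (LL S) := by
  rw [← card_X8 S]
  refine Dvd.intro_left (Nat.card (LL S ⊓ (J S.XZ 1 8 ⊔ S.T) : Subgroup G)) (card_rank_one inf_le_left ?_
    n2_mem_LL ?_ ?_ ?_).symm
  · intro x hx
    exact ⟨X8_le hx, Subgroup.mem_sup_left (mem_J hx (by norm_num) (by norm_num))⟩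
  · exact ⟨S.e 4 0 1, e4_mem S 0 1, fun h => one_ne_zero (S.e_eq_one h).2⟩
  · intro g hg
    rcases bruhat_PL S (LL_le hg) with h | ⟨b, hb, x, hx, h⟩
    · exact Or.inl ⟨hg, h.2⟩
    · refine Or.inr ⟨b, ⟨?_, hb.2⟩, x, hx, h⟩
      have e : b = g * x⁻¹ * S.n2⁻¹ := by rw [h]; group
      rw [e]
      exact (LL S).mul_mem ((LL S).mul_mem hg ((LL S).inv_mem (X8_le hx))) ((LL S).inv_mem n2_mem_LL)
  · intro x hx h
    have h1 : S.n2 * x * S.n2⁻¹ ∈ S.XZ 0 := S.n2_refl.mem' hx (by norm_num)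
    have h2 := X0_inf_BT S h1 h.2
    have e : x = S.n2⁻¹ * (S.n2 * x * S.n2⁻¹) * S.n2 := by group
    rw [e, h2]; group

/-- `q - 1` divides the order of `⟨X_0, X_8⟩` -/
theorem pred_dvd [Finite F] [Finite G] : Nat.card F - 1 ∣ Nat.card (LL S) := by
  let f : Fˣ →* LL S :=
    { toFun := fun d => ⟨S.h (Units.map (σ : F →* F) d) d, h_mem_LL d⟩
      map_one' := Subtype.ext (by show S.h (Units.map (σ : F →* F) 1) 1 = 1; rw [map_one, S.h_one])
      map_mul' := fun a b => Subtype.ext (by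
        show S.h (Units.map (σ : F →* F) (a * b)) (a * b) =
          S.h (Units.map (σ : F →* F) a) a * S.h (Units.map (σ : F →* F) b) b
        rw [S.h_mul, map_mul]) }
  have hf : Function.Injective f := by
    intro a b h
    exact (S.h_inj _ _ _ _ (congrArg Subtype.val h)).2
  have h1 := Subgroup.card_dvd_of_injective f hf
  rwa [Nat.card_units] at h1

/-- `k ↦ k - 4` -/
def g4 : G := (S.n2 * S.n1) * (S.n2 * S.n1)

theorem g4_conj {k : ℤ} {y : G} (hy : y ∈ S.XZ k) : g4 S * y * (g4 S)⁻¹ ∈ S.XZ (k - 4) := by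
  have hr : ∀ (a : ℤ) (y : G), y ∈ S.XZ a → (S.n2 * S.n1) * y * (S.n2 * S.n1)⁻¹ ∈ S.XZ (a - 2) := by
    intro a y hy
    have h1 := S.n1_refl.mem hy
    have h2 := S.n2_refl.mem h1
    have e : (S.n2 * S.n1) * y * (S.n2 * S.n1)⁻¹ = S.n2 * (S.n1 * y * S.n1⁻¹) * S.n2⁻¹ := by group
    rw [e]
    have e2 : (8 : ℤ) - (10 - a) = a - 2 := by ring
    rwa [e2] at h2
  have h1 := hr _ _ hy
  have h2 := hr _ _ h1
  have e : g4 S * y * (g4 S)⁻¹ =
      (S.n2 * S.n1) * ((S.n2 * S.n1) * y * (S.n2 * S.n1)⁻¹) * (S.n2 * S.n1)⁻¹ := by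
    unfold g4
    group
  rw [e]
  have e2 : k - 2 - 2 = k - 4 := by ring
  rwa [e2] at h2

/-- `⟨X_4, X_12⟩` -/
def MM : Subgroup G := (LL S).map (MulAut.conj (g4 S)).toMonoidHom

theorem MM_le : MM S ≤ S.XZ 4 ⊔ S.XZ (-4) := by
  unfold MM LL
  rw [Subgroup.map_sup]
  refine sup_le_sup ?_ ?_
  · rintro _ ⟨y, hy, rfl⟩
    exact g4_conj S hy
  · rintro _ ⟨y, hy, rfl⟩
    exact g4_conj S hy

theorem comm_MM {x y : G} (hx : x ∈ LL S) (hy : y ∈ MM S) : x * y = y * x := comm_04 hx (MM_le S hy)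

/-- `⟨X_0, X_8⟩` and `⟨X_4, X_12⟩` are isomorphic -/
noncomputable def equivMM : LL S ≃* MM S :=
  Subgroup.equivMapOfInjective _ _ (MulAut.conj (g4 S)).injective

theorem not_comm : ∃ a ∈ LL S, ∃ b ∈ LL S, a * b ≠ b * a := by
  refine ⟨S.n2, n2_mem_LL, S.e 4 0 1, X8_le (e4_mem S 0 1), fun h => ?_⟩
  have h1 := S.n2_e 4 0 1
  rw [h, mul_inv_cancel_right, sub_self] at h1
  have h2 : S.e 4 0 1 ∈ S.XZ 0 := h1 ▸ e0_mem S 0 1
  have h3 := S.X_inf_opp (i := 0) h2 (by rw [zero_add]; exact e4_mem S 0 1)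
  exact one_ne_zero (S.e_eq_one h3).2

theorem isoSuzuki_LL [Finite F] [Finite G] {k : ℕ} (hk : 2 ≤ k) (hF : Nat.card F = 2 ^ k) :
    Cfsg.Lie.IsoSuzuki (LL S) := by
  have h := LL_iso S hk hF
  rwa [LJ_eq] at h

/-- Suzuki groups are simple -/
theorem simple_of_iso {P : Type*} [Group P] (h : Cfsg.Lie.IsoSuzuki P) : IsSimpleGroup P := by
  obtain ⟨K, _, _, m, hm, hK, ⟨f⟩⟩ := h
  have hs : IsSimpleGroup ↥(Cfsg.Lie.Sz K (2 ^ (m + 1))) := Cfsg.Agent.S1162.result hm hK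
  exact f.isSimpleGroup

/-- `p`-subgroups of Suzuki subgroups are commutative, `p` odd -/
theorem comm_of_iso {A : Subgroup G} [Finite G] (h : Cfsg.Lie.IsoSuzuki A) {p : ℕ} [hp : Fact p.Prime] (h2 : p ≠ 2)
    (P : Subgroup G) (hPA : P ≤ A) (hP : IsPGroup p P) : ∀ x ∈ P, ∀ y ∈ P, x * y = y * x := by
  have hQ : IsPGroup p (P.subgroupOf A) := hP.comap_of_injective A.subtype A.subtype_injective
  have hc := Cfsg.Agent.Omega.NO1.SE.Centre.isCyclic_of_isPGroup h h2 (P.subgroupOf A) hQ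
  intro x hx y hy
  have h1 := (IsCyclic.commGroup (α := (P.subgroupOf A))).mul_comm ⟨⟨x, hPA hx⟩, mem_subgroupOf.2 hx⟩
    ⟨⟨y, hPA hy⟩, mem_subgroupOf.2 hy⟩
  exact congrArg (fun z : P.subgroupOf A => ((z : A) : G)) h1

theorem sq_three : ∀ y : ZMod 3, y ^ 2 ≠ -1 := by decide

/-- the prime divisors of `q - 1` and of `q² + 1` -/
theorem arith {p : ℕ} [hp : Fact p.Prime] (h2 : p ≠ 2) {q : ℕ} (hq : 1 ≤ q) :
    (p ∣ q - 1 → ∃ m, q ^ 12 * (q - 1) * (q ^ 3 + 1) * (q ^ 4 - 1) * (q ^ 6 + 1) = (q - 1) ^ 2 * m ∧ ¬ p ∣ m) ∧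
    (p ∣ 1 + q * q → ∃ m, q ^ 12 * (q - 1) * (q ^ 3 + 1) * (q ^ 4 - 1) * (q ^ 6 + 1) = (1 + q * q) ^ 2 * m ∧
      ¬ p ∣ m) := by
  obtain ⟨t, rfl⟩ : ∃ t, q = t + 1 := ⟨q - 1, by omega⟩
  have e1 : t + 1 - 1 = t := Nat.add_sub_cancel t 1
  have e4 : (t + 1) ^ 4 - 1 = t * (t + 2) * (1 + (t + 1) * (t + 1)) := by
    have : (t + 1) ^ 4 = t * (t + 2) * (1 + (t + 1) * (t + 1)) + 1 := by ring
    omega
  have h16 : ¬ p ∣ 16 := by
    intro h
    have h3 : p ∣ 2 ^ 4 := by simpa using h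
    exact h2 ((Nat.prime_dvd_prime_iff_eq hp.out Nat.prime_two).1 (hp.out.dvd_of_dvd_pow h3))
  rw [e1, e4]
  constructor
  · intro hd
    refine ⟨(t + 1) ^ 12 * ((t + 1) ^ 3 + 1) * ((t + 2) * (1 + (t + 1) * (t + 1))) * ((t + 1) ^ 6 + 1), by ring, ?_⟩
    intro h
    apply h16
    rw [← CharP.cast_eq_zero_iff (ZMod p) p] at h hd ⊢
    push_cast at h ⊢
    rw [hd] at h
    rw [← h]
    norm_num
  · intro hd
    refine ⟨(t + 1) ^ 12 * t * ((t + 1) ^ 3 + 1) * (t * (t + 2)) * ((t + 1) ^ 2 * (t * (t + 2)) + 1), by ring, ?_⟩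
    intro h
    rw [← CharP.cast_eq_zero_iff (ZMod p) p] at h hd
    push_cast at h hd
    obtain ⟨x, hx⟩ : ∃ x : ZMod p, x = (t : ZMod p) + 1 := ⟨_, rfl⟩
    have ht : (t : ZMod p) = x - 1 := by rw [hx]; ring
    rw [ht] at h hd
    have hx2 : x ^ 2 = -1 := by linear_combination hd
    have h12 : x ^ 12 = 1 := by
      have : x ^ 12 = (x ^ 2) ^ 6 := by ring
      rw [this, hx2]; ring
    have h3 : x ^ 3 = -x := by
      have : x ^ 3 = x ^ 2 * x := by ring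
      rw [this, hx2]; ring
    have h1 : (x - 1) * (x + 1) = -2 := by
      have : (x - 1) * (x + 1) = x ^ 2 - 1 := by ring
      rw [this, hx2]; ring
    have e5 : x - 1 + 1 = x := by ring
    have e6 : x - 1 + 2 = x + 1 := by ring
    rw [e5, e6, h12, h3, h1, hx2] at h
    have h7 : (12 : ZMod p) * x = 0 := by
      have : (1 * (x - 1) * (-x + 1) * -2 * (-1 * -2 + 1) : ZMod p) = 6 * (x ^ 2 + 1) - 12 * x := by ring
      rw [this, hx2] at h
      linear_combination -h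
    have h8 : (12 : ZMod p) = 0 := by
      have : (12 : ZMod p) = -(12 * x * x) := by linear_combination 12 * hx2
      rw [this, h7, zero_mul, neg_zero]
    have h9 : p ∣ 12 := by
      rw [← CharP.cast_eq_zero_iff (ZMod p) p]
      exact_mod_cast h8
    have h10 : p ∣ 2 ^ 2 * 3 := h9
    rcases hp.out.dvd_mul.1 h10 with h11 | h11
    · exact h2 ((Nat.prime_dvd_prime_iff_eq hp.out Nat.prime_two).1 (hp.out.dvd_of_dvd_pow h11))
    · have h12 : p = 3 := (Nat.prime_dvd_prime_iff_eq hp.out Nat.prime_three).1 h11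
      subst h12
      exact sq_three x hx2

include S in
/-- **`p ∣ |Sz(q)|`** -/
theorem nb [Finite F] [Finite G] [IsSimpleGroup G] {p : ℕ} [hp : Fact p.Prime] (h2 : p ≠ 2)
    (ih : IH p (Nat.card G)) {k : ℕ} (hk : 2 ≤ k) (hF : Nat.card F = 2 ^ k)
    (hG : Nat.card G = Nat.card F ^ 12 * (Nat.card F - 1) * (Nat.card F ^ 3 + 1) * (Nat.card F ^ 4 - 1) *
      (Nat.card F ^ 6 + 1))
    (hd : p ∣ Nat.card F - 1 ∨ p ∣ 1 + Nat.card F * Nat.card F) : NB p G := by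
  have hiso := isoSuzuki_LL S hk hF
  have hisoM : Cfsg.Lie.IsoSuzuki (MM S) := by
    obtain ⟨K, i1, i2, m, hm, hK, ⟨f⟩⟩ := hiso
    exact ⟨K, i1, i2, m, hm, hK, ⟨(equivMM S).symm.trans f⟩⟩
  have hna : ¬ IsMulCommutative G := by
    intro h
    obtain ⟨a, -, b, -, hab⟩ := not_comm S
    exact hab (h.is_comm.comm a b)
  have hcM : Nat.card (MM S) = Nat.card (LL S) := Nat.card_congr (equivMM S).symm.toEquiv
  obtain ⟨ar1, ar2⟩ := arith (p := p) h2 (q := Nat.card F) Nat.card_pos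
  have key : ∀ c : ℕ, p ∣ c → c ∣ Nat.card (LL S) → (∃ m, Nat.card G = c ^ 2 * m ∧ ¬ p ∣ m) → NB p G := by
    rintro c hpc hcA ⟨m, hm1, hm2⟩
    exact NB.of_pair hna ih (A := LL S) (B := MM S) (fun a ha b hb => comm_MM S ha hb) (simple_of_iso hiso)
      (not_comm S) (fun P hP hPp => comm_of_iso hiso h2 P hP hPp) (fun P hP hPp => comm_of_iso hisoM h2 P hP hPp)
      hpc hcA (by rw [hcM]; exact hcA) hm1 hm2
  rcases hd with hd | hd
  · refine key _ hd (pred_dvd S) ?_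
    rw [hG]
    exact ar1 hd
  · refine key _ hd (sq_dvd S) ?_
    rw [hG]
    exact ar2 hd

end Cfsg.Agent.H368.NB.TwFPair
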